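import Cfsg.Agent.TECH.SylIn

/-! Sylow 2-subgroups of order 128 with a section of rank five: the definitions. -/

set_option autoImplicit false

namespace CL.H7

open Subgroup CL.MSS

variable {G : Type*} [Group G]

/-- the centralizer of an element -/
abbrev Cz (t : G) : Subgroup G := centralizer {t}

/-- the normalizer of a subgroup -/
abbrev Nm (X : Subgroup G) : Subgroup G := normalizer (X : Set G)

/-- elementary abelian -/
def EA (E : Subgroup G) : Prop := ∀ x ∈ E, x * x = 1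

/-- `x` centralizes `H` -/
def Ce (H : Subgroup G) (x : G) : Prop := ∀ h ∈ H, h * x = x * h

/-- abelian -/
def Ab (M : Subgroup G) : Prop := ∀ a ∈ M, ∀ b ∈ M, a * b = b * a

/-- the centre as a subgroup of `G` -/
abbrev Zc (A : Subgroup G) : Subgroup G := A ⊓ centralizer (A : Set G)

/-- `S` is a Sylow 2-subgroup of order 128 and class at least three, without isolated involutions and without
strongly closed elementary abelian subgroups. -/
structure Ctx (S : Subgroup G) : Prop where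
  syl : SylIn 2 S ⊤
  card : Nat.card S = 128
  zs : ∀ z ∈ S, z ≠ 1 → z * z = 1 → Ce S z → ∃ t ∈ S, t ≠ z ∧ IsConj t z
  gold : ∀ U : Subgroup G, U ≤ S → U ≠ ⊥ → EA U →
    (∀ u ∈ U, ∀ g : G, g * u * g⁻¹ ∈ S → g * u * g⁻¹ ∈ U) → False
  cl3 : ¬ ∀ a ∈ S, ∀ b ∈ S, Ce S (a * b * a⁻¹ * b⁻¹)

/-- a maximal subgroup of `S` with Frattini subgroup `⟨z⟩` -/
structure Sq (S A : Subgroup G) (z : G) : Prop where
  le : A ≤ S
  card : Nat.card A = 64
  z1 : z ≠ 1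
  zz : z * z = 1
  sq : ∀ a ∈ A, a * a = 1 ∨ a * a = z
  ex : ∃ a ∈ A, a * a = z

/-- `S` needs at least five generators -/
def D5 (S : Subgroup G) : Prop := ∃ K : Subgroup G, Nat.card K ≤ 4 ∧ ∀ s ∈ S, s * s ∈ K

/-- an elementary abelian subgroup of order 32 -/
structure E32 (S E : Subgroup G) : Prop where
  le : E ≤ S
  ea : EA E
  card : Nat.card E = 32

/-- `A = E E^s`, and `z` is fused into `E ∖ E^s` -/
structure B1 (S A E : Subgroup G) (z t s : G) : Prop where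
  sq : Sq S A z
  e : E32 A E
  sS : s ∈ S
  tE : t ∈ E
  ts : t ∉ s •ᶜ E
  tz : IsConj t z

/-- `S ∖ A` acts with rank two on `A / ⟨z⟩`: `H / ⟨z⟩` is the fixed space and `Y / ⟨z⟩` the commutator space. -/
structure R2 (S A Y H : Subgroup G) (z : G) : Prop where
  sq : Sq S A z
  uq : ∀ A' z', Sq S A' z' → A' = A
  YH : Y ≤ H
  HA : H ≤ A
  cY : Nat.card Y = 8
  cH : Nat.card H = 16
  zY : z ∈ Y
  sqY : ∀ s ∈ S, s * s ∈ Y
  mem : ∀ s ∈ S, s ∉ A → ∀ a ∈ A, (a ∈ H ↔ s * a * s⁻¹ = a ∨ s * a * s⁻¹ = a * z)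
  sur : ∀ s ∈ S, s ∉ A → ∀ y ∈ Y, ∃ a ∈ A, s * a * s⁻¹ * a⁻¹ = y ∨ s * a * s⁻¹ * a⁻¹ = y * z

/-- the elements of `E` all of whose `N`-conjugates lie in `Z` -/
def Wc (E Z N : Subgroup G) : Subgroup G where
  carrier := {x | x ∈ E ∧ ∀ n ∈ N, n * x * n⁻¹ ∈ Z}
  one_mem' := ⟨one_mem _, fun n _ => by simp⟩
  mul_mem' := fun {a b} ha hb => ⟨mul_mem ha.1 hb.1, fun n hn => by
    have := mul_mem (ha.2 n hn) (hb.2 n hn)
    rwa [show n * a * n⁻¹ * (n * b * n⁻¹) = n * (a * b) * n⁻¹ by group] at this⟩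
  inv_mem' := fun {a} ha => ⟨inv_mem ha.1, fun n hn => by
    have := inv_mem (ha.2 n hn)
    rwa [show (n * a * n⁻¹)⁻¹ = n * a⁻¹ * n⁻¹ by group] at this⟩

theorem mem_Wc {E Z N : Subgroup G} {x : G} : x ∈ Wc E Z N ↔ x ∈ E ∧ ∀ n ∈ N, n * x * n⁻¹ ∈ Z := Iff.rfl

theorem mem_Cz {x t : G} : x ∈ Cz t ↔ x * t = t * x := mem_centralizer_singleton_iff

theorem mem_Zc {A : Subgroup G} {x : G} : x ∈ Zc A ↔ x ∈ A ∧ Ce A x :=
  ⟨fun h => ⟨h.1, fun a ha => h.2 a ha⟩, fun h => ⟨h.1, fun a ha => h.2 a ha⟩⟩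

end CL.H7
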